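import Mathlib.AlgebraicGeometry.Morphisms.QuasiFinite
import Groth.Agent.S4989

/-!
# Finite group schemes with connected fibres

`S` a scheme, `I` a finite `S`-group scheme with connected fibres: `I → S` is injective, and every
`S`-morphism from a reduced `S`-scheme to `I` is the unit.
-/

set_option autoImplicit false
universe u
open CategoryTheory AlgebraicGeometry CategoryTheory.Limits MonoidalCategory CartesianMonoidalCategory MonObj

namespace K114.ConnFin

theorem red_of_smooth {X Y : Scheme.{u}} (f : X ⟶ Y) [Smooth f] [IsReduced Y] : IsReduced X := by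
  have : ∀ x : ↥X, _root_.IsReduced (X.presheaf.stalk x) := fun x =>
    ((Groth.Agent.S4989.result f x
      (by rw [Scheme.Hom.smoothLocus_eq_top]; trivial)).1).mpr inferInstance
  exact isReduced_of_isReduced_stalk _

theorem injective_hom {S : Scheme.{u}} (I : Over S) [IsFinite I.hom]
    (hconn : ∀ s : S, ConnectedSpace ↥(I.hom.fiber s)) : Function.Injective I.hom := by
  intro x y hxy
  have : IsLocallyArtinian (I.hom.fiber (I.hom x)) := inferInstance
  have := hconn (I.hom x)
  have h1 : Subsingleton ↥(I.hom.fiber (I.hom x)) := by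
    have : DiscreteTopology ↥(I.hom.fiber (I.hom x)) := inferInstance
    exact ⟨fun a b => (isPreconnected_univ.subsingleton (Set.mem_univ a) (Set.mem_univ b))⟩
  have h2 := congrArg (I.hom.fiberι (I.hom x)) (h1.elim ((I.hom.fiberHomeo _).symm ⟨x, rfl⟩)
    ((I.hom.fiberHomeo _).symm ⟨y, hxy.symm⟩))
  rwa [Scheme.Hom.fiberι_fiberHomeo_symm, Scheme.Hom.fiberι_fiberHomeo_symm] at h2

theorem lift_unit {S : Scheme.{u}} (I : Over S) [GrpObj I] [IsFinite I.hom]
    (hconn : ∀ s : S, ConnectedSpace ↥(I.hom.fiber s)) {U : Over S} [IsReduced U.left] (f : U ⟶ I) :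
    f = 1 := by
  have he : (η[I] : 𝟙_ (Over S) ⟶ I).left ≫ I.hom = 𝟙 _ := Over.w η[I]
  have hcl : IsClosedImmersion (η[I] : 𝟙_ (Over S) ⟶ I).left := by
    have : IsClosedImmersion ((η[I] : 𝟙_ (Over S) ⟶ I).left ≫ I.hom) := by
      rw [he]; infer_instance
    exact IsClosedImmersion.of_comp _ I.hom
  have hsurj : Surjective (η[I] : 𝟙_ (Over S) ⟶ I).left := by
    refine ⟨fun x => ⟨I.hom x, injective_hom I hconn ?_⟩⟩
    have := congrArg (fun g : S ⟶ S => g (I.hom x)) he
    exact this
  have h1 : IsIso (pullback.fst f.left (η[I] : 𝟙_ (Over S) ⟶ I).left) :=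
    isIso_of_isClosedImmersion_of_surjective _
  have h2 : f.left = inv (pullback.fst f.left (η[I] : 𝟙_ (Over S) ⟶ I).left) ≫
      pullback.snd f.left (η[I] : 𝟙_ (Over S) ⟶ I).left ≫ (η[I] : 𝟙_ (Over S) ⟶ I).left := by
    rw [← pullback.condition, IsIso.inv_hom_id_assoc]
  ext1
  have h3 : inv (pullback.fst f.left (η[I] : 𝟙_ (Over S) ⟶ I).left) ≫
      pullback.snd f.left (η[I] : 𝟙_ (Over S) ⟶ I).left = U.hom := by
    have e1 := Over.w f
    rw [h2] at e1
    simp only [Category.assoc] at e1
    rw [he] at e1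
    rw [← e1]
    simp
  have h4 : (1 : U ⟶ I) = toUnit U ≫ η[I] := rfl
  rw [h4, Over.comp_left, h2, ← Category.assoc, h3]
  congr 1

end K114.ConnFin
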