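import Groth.Agent.TateLoc.K114.FrobSmooth
import Groth.Agent.Grpsch.KerMul
import Groth.Agent.AbVar.K523.KerSq
import Groth.Agent.S0353
import Groth.Prelude.Def_NonAbH2

/-!
# Every algebraic group is an extension of a smooth one by an infinitesimal one
-/

set_option autoImplicit false
universe u
open CategoryTheory MonoidalCategory CartesianMonoidalCategory MonObj GrpObj AlgebraicGeometry Limits

namespace K114.FrobSeq

variable {K : Type u} [Field K]

theorem exists_seq (G Q : Over (Spec (CommRingCat.of K))) [GrpObj G] [GrpObj Q] (q : G ⟶ Q) [IsMonHom q]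
    (hQs : Smooth Q.hom) (hsurj : Surjective q.left) (hflat : Flat q.left)
    (hlfp : LocallyOfFinitePresentation q.left) (hfin : IsFinite q.left) (hinj : UniversallyInjective q.left) :
    ∃ (H Q : Over (Spec (CommRingCat.of K))) (_ : GrpObj H) (_ : GrpObj Q) (i : H ⟶ G) (v : G ⟶ Q),
        IsFinite H.hom ∧ ConnectedSpace H.left ∧ Smooth Q.hom ∧ IsClosedImmersion i.left ∧
          NonAbH1.IsExactSeq Scheme.fppfPrecoverage i v := by
  obtain ⟨H, gH, i, hi, hpb⟩ := Groth.Agent.Grpsch.KerMul.exists_kernel q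
  have hpb' : IsPullback i.left (toUnit H).left q.left η[Q].left := hpb.map (Over.forget _)
  have hcl : IsClosedImmersion i.left := MorphismProperty.of_isPullback hpb'.flip inferInstance
  have hHunit : IsFinite (toUnit H).left := MorphismProperty.of_isPullback hpb' hfin
  have hHinj : UniversallyInjective (toUnit H).left := MorphismProperty.of_isPullback hpb' hinj
  have hHe : (toUnit H).left = H.hom := by
    simp
  refine ⟨H, Q, gH, inferInstance, i, q, ?_, ?_, hQs, hcl, hi, inferInstance, ?_, ?_, ?_⟩
  · rw [← hHe]; exact hHunit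
  · rw [hHe] at hHinj
    have hne : Nonempty H.left := ⟨η[H].left (IsLocalRing.closedPoint K)⟩
    have hss : Subsingleton H.left := ⟨fun x y => Scheme.Hom.injective H.hom (Subsingleton.elim _ _)⟩
    infer_instance
  · exact hpb.w.trans Hom.one_def.symm
  · have h := K523.KerSq.isPullback_ker i q hpb
    have he : fst G H * (snd G H ≫ i) = (G ◁ i) ≫ μ[G] := by
      rw [Hom.mul_def]
      congr 1
    rw [← he]
    exact h
  · refine ⟨Presieve.singleton q.left, ?_, ?_⟩
    · rw [Scheme.fppfPrecoverage, Scheme.singleton_mem_precoverage_iff]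
      exact ⟨hsurj.surj, ⟨hflat, hlfp⟩⟩
    · rintro S' f ⟨⟩
      exact ⟨𝟙 _, Category.id_comp _⟩

theorem main (G : Over (Spec (CommRingCat.of K))) [GrpObj G] [LocallyOfFiniteType G.hom] :
    ∃ (H Q : Over (Spec (CommRingCat.of K))) (_ : GrpObj H) (_ : GrpObj Q) (i : H ⟶ G) (v : G ⟶ Q),
        IsFinite H.hom ∧ ConnectedSpace H.left ∧ Smooth Q.hom ∧ IsClosedImmersion i.left ∧
          NonAbH1.IsExactSeq Scheme.fppfPrecoverage i v := by
  obtain ⟨p, hp⟩ := CharP.exists K
  rcases CharP.char_is_prime_or_zero K p with h | h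
  · have : Fact p.Prime := ⟨h⟩
    obtain ⟨Q, gQ, q, hq, h1, h2, h3, h4, h5, h6⟩ := FrobSmooth.exists_smooth p G
    exact exists_seq G Q q h1 h2 h3 h4 h5 h6
  · subst h
    have : CharZero K := CharP.charP_to_charZero K
    have hG : Smooth G.hom := Groth.Agent.S0353.result K G
    exact exists_seq G G (𝟙 G) hG (inferInstanceAs (Surjective (𝟙 G.left)))
      (inferInstanceAs (Flat (𝟙 G.left))) (inferInstanceAs (LocallyOfFinitePresentation (𝟙 G.left)))
      (inferInstanceAs (IsFinite (𝟙 G.left))) (inferInstanceAs (UniversallyInjective (𝟙 G.left)))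

end K114.FrobSeq
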