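import Groth.Prelude.Def_Frob
import Groth.Agent.Sga3B.DSPts
import Groth.Agent.Sga3B.Pts

/-!
# The relative Frobenius of a group scheme is a homomorphism

`K114.FrobHom.rel p G : G ⟶ Red.bc (FrobSch.frob S p) G` for `G` over `S` of characteristic `p`; on
`T`-points it is precomposition with the absolute Frobenius of `T` (`bcEquiv_symm_rel`).
-/

set_option autoImplicit false
universe u
open CategoryTheory MonoidalCategory CartesianMonoidalCategory MonObj GrpObj AlgebraicGeometry Limits

namespace K114.FrobHom

open Groth.Agent.Sga3B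

variable (p : ℕ) [Fact p.Prime] {S : Scheme.{u}} [FrobSch.IsCharP S p]

/-- The relative Frobenius `G ⟶ G^(p)` as a morphism over `S`. -/
noncomputable def rel (G : Over S) : G ⟶ Red.bc (FrobSch.frob S p) G :=
  Over.homMk (FrobSch.relFrob G.hom p) (FrobSch.relFrob_snd G.hom p)

@[simp] lemma rel_left (G : Over S) : (rel p G).left = FrobSch.relFrob G.hom p := rfl

/-- The absolute Frobenius of `T`, as a morphism over `S` from `T` over `S` through `F_S` to `T`. -/
noncomputable def phi (T : Over S) : (Over.map (FrobSch.frob S p)).obj T ⟶ T :=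
  haveI : FrobSch.IsCharP T.left p := FrobSch.IsCharP.of_hom T.hom p
  Over.homMk (FrobSch.frob T.left p) (by
    rw [FrobSch.frob_comp p T.hom]; rfl)

lemma bcEquiv_symm_rel (G : Over S) [GrpObj G] {T : Over S} (x : T ⟶ G) :
    (DSPts.bcEquiv (FrobSch.frob S p) T G).symm (x ≫ rel p G) = phi p T ≫ x := by
  haveI : FrobSch.IsCharP T.left p := FrobSch.IsCharP.of_hom T.hom p
  haveI : FrobSch.IsCharP G.left p := FrobSch.IsCharP.of_hom G.hom p
  ext1
  rw [DSPts.bcEquiv_symm_left, Over.comp_left, Over.comp_left, Category.assoc, rel_left,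
    FrobSch.relFrob_fst]
  exact (FrobSch.frob_comp p x.left).symm

instance isMonHom_rel (G : Over S) [GrpObj G] : IsMonHom (rel p G) := by
  apply Pts.isMonHom_of_points
  intro X x y
  apply (DSPts.bcEquiv (FrobSch.frob S p) X G).symm.injective
  rw [map_mul, bcEquiv_symm_rel, bcEquiv_symm_rel, bcEquiv_symm_rel, MonObj.comp_mul]

end K114.FrobHom
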