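import Mathlib.AlgebraicGeometry.Group.Smooth
import Mathlib.RingTheory.Nilpotent.Lemmas
import Mathlib.RingTheory.Noetherian.Nilpotent

/-!
# Nilpotent functions on a group scheme locally of finite type have bounded nilpotency order
-/

set_option autoImplicit false
universe u
open CategoryTheory MonoidalCategory CartesianMonoidalCategory MonObj GrpObj AlgebraicGeometry Limits
  TopologicalSpace

namespace K114.UnifNil

variable {K : Type u} [Field K] [IsAlgClosed K]

theorem pow_eq_zero_of_stalk {X : Scheme.{u}} {m : ℕ} {y : X}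
    (hm : ∀ w : X.presheaf.stalk y, IsNilpotent w → w ^ m = 0) (e : X ⟶ X) [IsIso e] (x : X) (hxy : e x = y)
    (w : X.presheaf.stalk x) (hw : IsNilpotent w) : w ^ m = 0 := by
  subst hxy
  have h1 : Function.Bijective (e.stalkMap x).hom :=
    ConcreteCategory.bijective_of_isIso (e.stalkMap x)
  obtain ⟨w', rfl⟩ := h1.2 w
  have h2 : IsNilpotent w' := by
    rwa [IsNilpotent.map_iff h1.1] at hw
  rw [← map_pow, hm w' h2, map_zero]

theorem section_eq_zero {X : Scheme.{u}} [JacobsonSpace X] (U : X.Opens) (s : Γ(X, U))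
    (h : ∀ (x : X) (hx : x ∈ U), x ∈ closedPoints X → X.presheaf.germ U x hx s = 0) : s = 0 := by
  by_contra hs
  let V : Set X := {x | ∃ (W : X.Opens) (_ : x ∈ W) (i : W ⟶ U), X.presheaf.map i.op s = 0}
  have hV : IsOpen V := by
    rw [isOpen_iff_forall_mem_open]
    rintro x ⟨W, hx, i, hW⟩
    exact ⟨W, fun y hy => ⟨W, hy, i, hW⟩, W.2, hx⟩
  have hne : ((U : Set X) ∩ Vᶜ).Nonempty := by
    by_contra hempty
    rw [Set.not_nonempty_iff_eq_empty] at hempty
    apply hs
    refine TopCat.Presheaf.section_ext X.sheaf U s 0 fun x hx => ?_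
    have hxV : x ∈ V := by
      by_contra hxV
      have : x ∈ (U : Set X) ∩ Vᶜ := ⟨hx, hxV⟩
      rw [hempty] at this
      exact this
    obtain ⟨W, hxW, i, hW⟩ := hxV
    have h1 : X.presheaf.germ U x hx s = X.presheaf.germ W x hxW (X.presheaf.map i.op s) :=
      (TopCat.Presheaf.germ_res_apply X.presheaf i x hxW s).symm
    rw [hW, map_zero] at h1
    change X.presheaf.germ U x hx s = X.presheaf.germ U x hx 0
    rw [h1, map_zero]
  obtain ⟨x, ⟨hxU, hxV⟩, hxc⟩ :=
    nonempty_inter_closedPoints hne (U.2.isLocallyClosed.inter hV.isClosed_compl.isLocallyClosed)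
  apply hxV
  have h2 : X.presheaf.germ U x hxU s = X.presheaf.germ U x hxU 0 := by
    rw [h x hxU hxc, map_zero]
  obtain ⟨W, hxW, i, j, hij⟩ := TopCat.Presheaf.germ_eq X.presheaf x hxU hxU s 0 h2
  exact ⟨W, hxW, i, by rw [hij, map_zero]⟩

set_option backward.defeqAttrib.useBackward true in
set_option backward.isDefEq.respectTransparency false in
theorem exists_aut (G : Over (Spec (CommRingCat.of K))) [GrpObj G] [LocallyOfFiniteType G.hom] (x : G.left)
    (hx : x ∈ closedPoints G.left) : ∃ e : G.left ⟶ G.left, IsIso e ∧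
      e x = (η[G] : 𝟙_ (Over (Spec (CommRingCat.of K))) ⟶ G).left (IsLocalRing.closedPoint K) := by
  let x' : 𝟙_ _ ⟶ G := Over.homMk _ ((pointEquivClosedPoint G.hom).symm ⟨x, hx⟩).2
  let α := (GrpObj.mulRight (A := G) x').symm ≪≫ (GrpObj.mulRight (A := G) η[G])
  have hα : x' ≫ α.hom = η[G] := by
    dsimp only [Iso.trans_hom, Iso.symm_hom, α]
    rw [← Category.assoc, ← Iso.eq_comp_inv]
    simp [comp_lift_assoc]
  refine ⟨α.hom.left, inferInstance, ?_⟩
  simpa [x', pointEquivClosedPoint] using congr(($hα).left (IsLocalRing.closedPoint K))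

theorem exists_unif (G : Over (Spec (CommRingCat.of K))) [GrpObj G] [LocallyOfFiniteType G.hom] :
    ∃ m : ℕ, ∀ (U : G.left.Opens) (z : Γ(G.left, U)), IsNilpotent z → z ^ m = 0 := by
  have := LocallyOfFiniteType.jacobsonSpace G.hom
  have := LocallyOfFiniteType.isLocallyNoetherian G.hom
  let e0 : G.left := (η[G] : 𝟙_ (Over (Spec (CommRingCat.of K))) ⟶ G).left (IsLocalRing.closedPoint K)
  have hN : IsNilpotent (nilradical (G.left.presheaf.stalk e0)) := IsNoetherianRing.isNilpotent_nilradical _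
  obtain ⟨m, hm⟩ := hN
  have hm' : ∀ w : G.left.presheaf.stalk e0, IsNilpotent w → w ^ m = 0 := by
    intro w hw
    have h1 : w ^ m ∈ nilradical (G.left.presheaf.stalk e0) ^ m := Ideal.pow_mem_pow hw m
    rw [hm] at h1
    exact h1
  refine ⟨m, fun U z hz => section_eq_zero U _ fun x hx hxc => ?_⟩
  obtain ⟨e, he, hex⟩ := exists_aut G x hxc
  rw [map_pow]
  exact pow_eq_zero_of_stalk hm' e x hex _ (hz.map _)

end K114.UnifNil
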