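import Groth.Agent.TateLoc.K114.FrobStep
import Groth.Agent.TateLoc.K114.UnifNil
import Groth.Agent.Sga3C.GeomRed
import Groth.Agent.Sga3C.FlatGeneric
import Groth.Agent.VarietyA.GeomRedAlg
import Mathlib.RingTheory.Nilpotent.GeometricallyReduced
import Mathlib.FieldTheory.Perfect

/-!
# The quotient of a group scheme by a large Frobenius kernel is smooth
-/

set_option autoImplicit false
universe u
open CategoryTheory MonoidalCategory CartesianMonoidalCategory MonObj GrpObj AlgebraicGeometry Limits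
open scoped TensorProduct
open Groth.Agent

namespace K114.FrobSmooth

section Alg

theorem isReduced_tensor (p : ℕ) [Fact p.Prime] (n : ℕ) {K Ω A B : Type*} [Field K] [CharP K p] [Field Ω]
    [Algebra K Ω] [IsAlgClosed Ω] [CommRing A] [Algebra K A] [CommRing B] [Algebra K B] (ψ : B →ₐ[K] A)
    (hψ : Function.Injective ψ)
    (hmem : ∀ b : B, ψ b ∈ Subring.closure (Set.range (algebraMap K A) ∪ Set.range fun a : A => a ^ (p ^ n)))
    (hA : ∀ z : Ω ⊗[K] A, IsNilpotent z → z ^ (p ^ n) = 0) : _root_.IsReduced (Ω ⊗[K] B) := by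
  have : CharP Ω p := charP_of_injective_algebraMap (algebraMap K Ω).injective p
  let Ψ : Ω ⊗[K] B →ₐ[Ω] Ω ⊗[K] A := Algebra.TensorProduct.map (AlgHom.id Ω Ω) ψ
  have hΨ : Function.Injective Ψ := by
    have h1 := Module.Flat.lTensor_preserves_injective_linearMap (M := Ω) ψ.toLinearMap hψ
    exact h1
  rcases subsingleton_or_nontrivial (Ω ⊗[K] A) with hs | hn
  · refine ⟨fun y _ => hΨ (Subsingleton.elim _ _)⟩
  have : CharP (Ω ⊗[K] A) p := charP_of_injective_algebraMap (algebraMap Ω (Ω ⊗[K] A)).injective p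
  let R : Subring (Ω ⊗[K] A) := (iterateFrobenius (Ω ⊗[K] A) p n).range
  have hroot : ∀ ω : Ω, ∃ ω' : Ω, ω' ^ (p ^ n) = ω := fun ω =>
    IsAlgClosed.exists_pow_nat_eq ω (pow_pos (Fact.out : p.Prime).pos n)
  have hR1 : ∀ ω : Ω, algebraMap Ω (Ω ⊗[K] A) ω ∈ R := by
    intro ω
    obtain ⟨ω', rfl⟩ := hroot ω
    refine ⟨algebraMap Ω (Ω ⊗[K] A) ω', ?_⟩
    rw [iterateFrobenius_def, ← map_pow]
  have hR2 : ∀ a ∈ Subring.closure (Set.range (algebraMap K A) ∪ Set.range fun a : A => a ^ (p ^ n)),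
      (1 : Ω) ⊗ₜ[K] a ∈ R := by
    intro a ha
    have h1 : Subring.closure (Set.range (algebraMap K A) ∪ Set.range fun a : A => a ^ (p ^ n)) ≤
        R.comap (Algebra.TensorProduct.includeRight : A →ₐ[K] Ω ⊗[K] A).toRingHom := by
      refine Subring.closure_le.mpr ?_
      rintro _ (⟨c, rfl⟩ | ⟨a, rfl⟩)
      · change (Algebra.TensorProduct.includeRight : A →ₐ[K] Ω ⊗[K] A) (algebraMap K A c) ∈ R
        rw [AlgHom.commutes, IsScalarTower.algebraMap_apply K Ω (Ω ⊗[K] A)]
        exact hR1 _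
      · change (Algebra.TensorProduct.includeRight : A →ₐ[K] Ω ⊗[K] A) (a ^ (p ^ n)) ∈ R
        refine ⟨(Algebra.TensorProduct.includeRight : A →ₐ[K] Ω ⊗[K] A) a, ?_⟩
        rw [iterateFrobenius_def, ← map_pow]
    exact h1 ha
  have hR : ∀ y : Ω ⊗[K] B, Ψ y ∈ R := by
    intro y
    induction y using TensorProduct.induction_on with
    | zero => rw [map_zero]; exact R.zero_mem
    | add y y' hy hy' => rw [map_add]; exact R.add_mem hy hy'
    | tmul ω b =>
      have h1 : Ψ (ω ⊗ₜ b) = algebraMap Ω (Ω ⊗[K] A) ω * ((1 : Ω) ⊗ₜ[K] ψ b) := by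
        simp [Ψ, Algebra.TensorProduct.algebraMap_apply]
      rw [h1]
      exact R.mul_mem (hR1 _) (hR2 _ (hmem b))
  refine ⟨fun y hy => hΨ ?_⟩
  rw [map_zero]
  obtain ⟨z, hz⟩ := hR y
  rw [iterateFrobenius_def] at hz
  have h1 : IsNilpotent (Ψ y) := hy.map Ψ
  rw [← hz] at h1 ⊢
  exact hA z ((IsNilpotent.pow_iff_pos (pow_pos (Fact.out : p.Prime).pos n).ne').mp h1)

end Alg

lemma nil_of_openImmersion {X : Scheme.{u}} {N : ℕ}
    (hX : ∀ (U : X.Opens) (z : Γ(X, U)), IsNilpotent z → z ^ N = 0) (R : CommRingCat.{u}) (j : Spec R ⟶ X)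
    [IsOpenImmersion j] (r : R) (hr : IsNilpotent r) : r ^ N = 0 := by
  let e : Γ(X, j ''ᵁ ⊤) ≃+* R := (j.appIso ⊤ ≪≫ Scheme.ΓSpecIso R).commRingCatIsoToRingEquiv
  have h1 : IsNilpotent (e.symm r) := hr.map e.symm
  have h2 := hX _ _ h1
  rw [← map_pow] at h2
  exact (map_eq_zero_iff e.symm e.symm.injective).mp h2

lemma eq_of_specMap {X : Scheme.{u}} {R : CommRingCat.{u}} (f : X ⟶ Spec R) {V : X.Opens} (hV : IsAffineOpen V)
    (φ : R ⟶ Γ(X, V)) (hφ : Spec.map φ = hV.fromSpec ≫ f) :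
    φ = (Scheme.ΓSpecIso R).inv ≫ f.appLE ⊤ V (show V ≤ f ⁻¹ᵁ ⊤ from le_top) := by
  apply Spec.map_injective
  rw [hφ, Spec.map_comp, ← IsAffineOpen.SpecMap_appLE_fromSpec f (isAffineOpen_top (Spec R)) hV le_top,
    IsAffineOpen.fromSpec_top, Scheme.isoSpec_Spec_inv]

variable {K : Type u} [Field K]

/-- The quotient by a large Frobenius kernel is geometrically reduced. -/
theorem geometricallyReduced_of_good (p : ℕ) [Fact p.Prime] [CharP K p] (n : ℕ)
    {G Q : Over (Spec (CommRingCat.of K))} (q : G ⟶ Q) (h : FrobStep.Good (p ^ n) q)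
    (hX : ∀ (U : (pullback G.hom (Spec.map (CommRingCat.ofHom (algebraMap K (AlgebraicClosure K))))).Opens)
      (z : Γ(pullback G.hom (Spec.map (CommRingCat.ofHom (algebraMap K (AlgebraicClosure K)))), U)),
      IsNilpotent z → z ^ (p ^ n) = 0) : GeometricallyReduced Q.hom := by
  let Ω := AlgebraicClosure K
  let g : Spec (CommRingCat.of Ω) ⟶ Spec (CommRingCat.of K) := Spec.map (CommRingCat.ofHom (algebraMap K Ω))
  have hU0 : TopologicalSpace.IsOpenCover (fun V : Q.left.affineOpens => V.1) :=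
    iSup_affineOpens_eq_top Q.left
  refine Sga3C.GeomRed.geometricallyReduced_of_openCover Q.hom
    (Q.left.openCoverOfIsOpenCover _ hU0) fun i ↦ ?_
  change GeometricallyReduced (i.1.ι ≫ Q.hom)
  have hV : IsAffineOpen i.1 := i.2
  rw [← hV.isoSpec_hom_fromSpec, Category.assoc, Sga3C.GeomRed.geometricallyReduced_iso_comp_iff]
  obtain ⟨φ, hφ⟩ := Spec.map_surjective (hV.fromSpec ≫ Q.hom)
  rw [← hφ]
  algebraize [φ.hom]
  rw [show φ = CommRingCat.ofHom (algebraMap K Γ(Q.left, i.1)) from rfl,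
    Sga3C.GeomRed.geometricallyReduced_spec_iff]
  have := h.fin
  have hU : IsAffineOpen (q.left ⁻¹ᵁ i.1) := hV.preimage q.left
  obtain ⟨χ, hχ⟩ := Spec.map_surjective (hU.fromSpec ≫ G.hom)
  let _ : Algebra K Γ(G.left, q.left ⁻¹ᵁ i.1) := χ.hom.toAlgebra
  have hsc : ∀ c : K, algebraMap K Γ(G.left, q.left ⁻¹ᵁ i.1) c = FrobStep.sc G.hom (q.left ⁻¹ᵁ i.1) c :=
    fun c => congr($(eq_of_specMap G.hom hU χ hχ) c)
  have hsc' : ∀ c : K, algebraMap K Γ(Q.left, i.1) c = FrobStep.sc Q.hom i.1 c :=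
    fun c => congr($(eq_of_specMap Q.hom hV φ hφ) c)
  let ψ : Γ(Q.left, i.1) →ₐ[K] Γ(G.left, q.left ⁻¹ᵁ i.1) :=
    { toRingHom := (q.left.app i.1).hom
      commutes' := fun c => by
        rw [hsc, hsc']
        exact FrobStep.app_sc q.left Q.hom G.hom (Over.w q) i.1 c }
  have hψ : Function.Injective ψ := by
    have := h.flat
    have := h.surj
    exact Sga3C.FlatGeneric.app_injective_of_flat_surjective q.left i.1
  have hred : _root_.IsReduced (Ω ⊗[K] Γ(Q.left, i.1)) := by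
    refine isReduced_tensor p n ψ hψ ?_ ?_
    · intro b
      have h1 := h.mem i.1 hV b
      rw [show Set.range (algebraMap K Γ(G.left, q.left ⁻¹ᵁ i.1)) =
        Set.range (FrobStep.sc G.hom (q.left ⁻¹ᵁ i.1)) from by
          congr 1; ext c; exact hsc c]
      exact h1
    · intro z hz
      let e := Algebra.TensorProduct.comm K Ω Γ(G.left, q.left ⁻¹ᵁ i.1)
      let j : Spec (CommRingCat.of (Γ(G.left, q.left ⁻¹ᵁ i.1) ⊗[K] Ω)) ⟶ pullback G.hom g :=
        (pullbackSpecIso K Γ(G.left, q.left ⁻¹ᵁ i.1) Ω).inv ≫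
          pullback.map _ _ G.hom g hU.fromSpec (𝟙 _) (𝟙 _)
            (by rw [Category.comp_id]; exact hχ) (by rw [Category.comp_id, Category.id_comp])
      have hj : IsOpenImmersion j := inferInstance
      have h1 := nil_of_openImmersion hX _ j (e z) (hz.map e)
      rw [← map_pow] at h1
      exact (map_eq_zero_iff e e.injective).mp h1
  have hgr : Algebra.IsGeometricallyReduced K Γ(Q.left, i.1) :=
    (Algebra.isGeometricallyReduced_field_iff K _).mpr hred
  intro L _ _
  have h4 : _root_.IsReduced (L ⊗[K] Γ(Q.left, i.1)) := Groth.Agent.VarietyA.GeomRedAlg.isReduced_tensorProduct_field L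
  exact isReduced_of_injective (Algebra.TensorProduct.comm K Γ(Q.left, i.1) L).toRingHom
    (Algebra.TensorProduct.comm K Γ(Q.left, i.1) L).injective

/-- For a group scheme `G` locally of finite type over a field of characteristic `p` there is a
homomorphism `q : G ⟶ Q` onto a smooth group scheme which is fppf, finite and universally injective. -/
theorem exists_smooth (p : ℕ) [Fact p.Prime] [CharP K p] (G : Over (Spec (CommRingCat.of K))) [GrpObj G]
    [LocallyOfFiniteType G.hom] :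
    ∃ (Q : Over (Spec (CommRingCat.of K))) (_ : GrpObj Q) (q : G ⟶ Q), IsMonHom q ∧ Smooth Q.hom ∧
      Surjective q.left ∧ Flat q.left ∧ LocallyOfFinitePresentation q.left ∧ IsFinite q.left ∧
      UniversallyInjective q.left := by
  let g : Spec (CommRingCat.of (AlgebraicClosure K)) ⟶ Spec (CommRingCat.of K) :=
    Spec.map (CommRingCat.ofHom (algebraMap K (AlgebraicClosure K)))
  have hft : LocallyOfFiniteType (Red.bc g G).hom := inferInstanceAs (LocallyOfFiniteType (pullback.snd G.hom g))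
  obtain ⟨m, hm⟩ := UnifNil.exists_unif (Red.bc g G)
  obtain ⟨Q, gQ, q, hq, hQ, hgood⟩ := FrobStep.iter p m G
  have hle : m ≤ p ^ m := (Nat.lt_pow_self (Fact.out : p.Prime).one_lt).le
  have hgr : GeometricallyReduced Q.hom := geometricallyReduced_of_good p m q hgood fun U z hz => by
    have h1 : z ^ m = 0 := hm U z hz
    exact pow_eq_zero_of_le hle h1
  have hQs : Smooth Q.hom := by
    let _ : GrpObj (Over.mk Q.hom) := gQ
    exact smooth_of_grpObj Q.hom
  exact ⟨Q, gQ, q, hq, hQs, hgood.surj, hgood.flat, hgood.lfp, hgood.fin, hgood.inj⟩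

end K114.FrobSmooth
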