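import Groth.Agent.TateLoc.K114.FrobHom
import Groth.Agent.Variety.K430.FrobDer
import Groth.Agent.SGA3x.K11.QuotOrbit
import Mathlib.AlgebraicGeometry.ZariskisMainTheorem

/-!
# Division by the Frobenius kernel

For a group scheme `G` locally of finite type over a field `K` of characteristic `p`: the quotient
`q : G ⟶ Q` of `G` by the kernel of the relative Frobenius is an fppf, finite, universally injective
homomorphism, and the sections of `O_Q` over an affine open `V` lie, inside the sections of `O_G` over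
`q⁻¹ V`, in the subring generated by `K` and the `p`-th powers (`step`); iterating (`iter`).
-/

set_option autoImplicit false
universe u
open CategoryTheory MonoidalCategory CartesianMonoidalCategory MonObj GrpObj AlgebraicGeometry Limits

namespace K114.FrobStep

variable {K : Type u} [Field K]

section Scalars

variable {X Y : Scheme.{u}}

/-- The constants of `K` as sections of a `K`-scheme over an open. -/
noncomputable def sc (f : X ⟶ Spec (CommRingCat.of K)) (U : X.Opens) : K →+* Γ(X, U) :=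
  ((Scheme.ΓSpecIso (CommRingCat.of K)).inv ≫ f.appLE ⊤ U (show U ≤ f ⁻¹ᵁ ⊤ from le_top)).hom

lemma app_sc (g : X ⟶ Y) (f : Y ⟶ Spec (CommRingCat.of K)) (h : X ⟶ Spec (CommRingCat.of K)) (w : g ≫ f = h)
    (V : Y.Opens) (c : K) : g.app V (sc f V c) = sc h (g ⁻¹ᵁ V) c := by
  subst w
  have h1 : f.appLE ⊤ V (show V ≤ f ⁻¹ᵁ ⊤ from le_top) ≫ g.app V =
      (g ≫ f).appLE ⊤ (g ⁻¹ᵁ V) (show g ⁻¹ᵁ V ≤ (g ≫ f) ⁻¹ᵁ ⊤ from le_top) := by
    rw [Scheme.Hom.app_eq_appLE, Scheme.Hom.appLE_comp_appLE]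
  have h2 := congr($h1 ((Scheme.ΓSpecIso (CommRingCat.of K)).inv c))
  exact h2

/-- The subring of `Γ(X, U)` generated by the constants and the `N`-th powers. -/
noncomputable def PS (f : X ⟶ Spec (CommRingCat.of K)) (N : ℕ) (U : X.Opens) : Subring Γ(X, U) :=
  Subring.closure (Set.range (sc f U) ∪ Set.range fun a : Γ(X, U) => a ^ N)

lemma sc_mem (f : X ⟶ Spec (CommRingCat.of K)) (N : ℕ) (U : X.Opens) (c : K) : sc f U c ∈ PS f N U :=
  Subring.subset_closure (Or.inl ⟨c, rfl⟩)

lemma pow_mem (f : X ⟶ Spec (CommRingCat.of K)) (N : ℕ) (U : X.Opens) (a : Γ(X, U)) : a ^ N ∈ PS f N U :=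
  Subring.subset_closure (Or.inr ⟨a, rfl⟩)

lemma PS_one (f : X ⟶ Spec (CommRingCat.of K)) (U : X.Opens) (a : Γ(X, U)) : a ∈ PS f 1 U := by
  simpa using pow_mem f 1 U a

end Scalars

lemma universallyInjective_of_comp {X Y Z : Scheme.{u}} (f : X ⟶ Y) (g : Y ⟶ Z)
    [h : UniversallyInjective (f ≫ g)] : UniversallyInjective f := by
  have e1 : UniversallyInjective f ↔ ∀ (K : Type u) [Field K],
      Function.Injective (fun g : Spec (.of K) ⟶ X ↦ g ≫ f) := (tfae_universallyInjective f).out 0 1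
  have e2 : UniversallyInjective (f ≫ g) ↔ ∀ (K : Type u) [Field K],
      Function.Injective (fun g' : Spec (.of K) ⟶ X ↦ g' ≫ f ≫ g) :=
    (tfae_universallyInjective (f ≫ g)).out 0 1
  rw [e1]
  rw [e2] at h
  intro K _ a b hab
  apply h K
  have h3 : a ≫ f = b ≫ f := hab
  change a ≫ f ≫ g = b ≫ f ≫ g
  rw [← Category.assoc, h3, Category.assoc]

lemma natCast_eq_zero (p : ℕ) [CharP K p] {X : Scheme.{u}} (f : X ⟶ Spec (CommRingCat.of K)) (U : X.Opens) :
    (p : Γ(X, U)) = 0 := by
  rw [← map_natCast (sc f U) p, CharP.cast_eq_zero K p, map_zero]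

section Main

variable (p : ℕ) [Fact p.Prime] [CharP K p]

/-- The properties of the quotient by an iterated Frobenius kernel. -/
structure Good (N : ℕ) {G Q : Over (Spec (CommRingCat.of K))} (q : G ⟶ Q) : Prop where
  surj : Surjective q.left
  flat : Flat q.left
  lfp : LocallyOfFinitePresentation q.left
  fin : IsFinite q.left
  inj : UniversallyInjective q.left
  mem : ∀ V : Q.left.Opens, IsAffineOpen V → ∀ b : Γ(Q.left, V), q.left.app V b ∈ PS G.hom N (q.left ⁻¹ᵁ V)

theorem good_id (G : Over (Spec (CommRingCat.of K))) : Good (K := K) 1 (𝟙 G) where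
  surj := by rw [Over.id_left]; infer_instance
  flat := by rw [Over.id_left]; infer_instance
  lfp := by rw [Over.id_left]; infer_instance
  fin := by rw [Over.id_left]; infer_instance
  inj := by rw [Over.id_left]; infer_instance
  mem _ _ _ := PS_one _ _ _

/-- One step: the quotient by the kernel of Frobenius. -/
theorem step (G : Over (Spec (CommRingCat.of K))) [GrpObj G] [LocallyOfFiniteType G.hom] :
    ∃ (Q : Over (Spec (CommRingCat.of K))) (_ : GrpObj Q) (q : G ⟶ Q), IsMonHom q ∧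
      LocallyOfFiniteType Q.hom ∧ Good p q := by
  let S : Scheme.{u} := Spec (CommRingCat.of K)
  let F : S ⟶ S := FrobSch.frob S p
  have : FrobSch.IsCharP G.left p := FrobSch.IsCharP.of_hom G.hom p
  let H : Over S := Red.bc F G
  let u : G ⟶ H := FrobHom.rel p G
  have hH : LocallyOfFiniteType H.hom := inferInstanceAs (LocallyOfFiniteType (pullback.snd G.hom F))
  have huf : IsFinite u.left := K430.Frob.relFrob_isFinite p G.hom
  have hui : UniversallyInjective u.left :=
    ((Groth.Agent.FlatA.UnivHomeo.isUnivHomeo_iff _).mp (K430.Frob.relFrob_isUnivHomeo p G.hom)).2.1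
  have hker : AlgGrp.IsKernel (pullback.fst u η[H]) u := by
    have h1 := IsPullback.of_hasPullback u η[H]
    have h2 : pullback.snd u η[H] = toUnit _ := toUnit_unique _ _
    rw [h2] at h1
    exact h1
  have : LocallyOfFinitePresentation G.hom :=
    LocallyOfFinitePresentation.iff_locallyOfFiniteType.mpr inferInstance
  obtain ⟨Q, gQ, q, hq, m, hm, hqm, hs, hf, hlfp, hmono, hQ, hpb⟩ :=
    K11.QuotOrbit.exists_quotient_ker (Or.inl hH) u _ _ hker
  have hQ' : LocallyOfFiniteType Q.hom := inferInstance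
  have hqml : q.left ≫ m.left = u.left := by rw [← Over.comp_left, hqm]
  have hml : Mono m.left := inferInstance
  have huc : UniversallyClosed m.left := by
    have : UniversallyClosed (q.left ≫ m.left) := by rw [hqml]; infer_instance
    exact UniversallyClosed.of_comp_surjective q.left m.left
  have hmft : LocallyOfFiniteType m.left := by
    have : LocallyOfFiniteType (m.left ≫ H.hom) := by rw [Over.w m]; infer_instance
    exact locallyOfFiniteType_of_comp m.left H.hom
  have hmp : IsProper m.left := { }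
  have hmc : IsClosedImmersion m.left := (IsClosedImmersion.iff_isProper_and_mono m.left).mpr ⟨hmp, hml⟩
  have hqf : IsFinite q.left := by
    have : IsFinite (q.left ≫ m.left) := by rw [hqml]; infer_instance
    exact IsFinite.of_comp q.left m.left
  have hqi : UniversallyInjective q.left := by
    have : UniversallyInjective (q.left ≫ m.left) := by rw [hqml]; infer_instance
    exact universallyInjective_of_comp q.left m.left
  refine ⟨Q, gQ, q, hq, hQ', ⟨hs, hf, hlfp, hqf, hqi, ?_⟩⟩
  intro V hV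
  let U : G.left.Opens := q.left ⁻¹ᵁ V
  have hU : IsAffineOpen U := hV.preimage q.left
  let W : H.left.Opens := (pullback.fst G.hom F) ⁻¹ᵁ U ⊓ (pullback.snd G.hom F) ⁻¹ᵁ ⊤
  have hfst : ∀ y : G.left, (pullback.fst G.hom F) (u.left y) = y := by
    intro y
    rw [← Scheme.Hom.comp_apply]
    change (FrobSch.relFrob G.hom p ≫ pullback.fst G.hom (FrobSch.frob S p)) y = y
    rw [FrobSch.relFrob_fst]; rfl
  have hFa : IsAffineHom F := K430.Frob.frob_isAffineHom S p
  have hW : IsAffineOpen W := by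
    have : IsAffineHom (pullback.fst G.hom F) := 
      MorphismProperty.of_isPullback (P := @IsAffineHom) (IsPullback.of_hasPullback G.hom F).flip hFa
    have : W = (pullback.fst G.hom F) ⁻¹ᵁ U := by
      ext x; simp [W]
    rw [this]
    exact hU.preimage (pullback.fst G.hom F)
  have hVW : m.left ⁻¹ᵁ W = V := by
    ext y
    obtain ⟨x, rfl⟩ := hs.surj y
    have h1 : m.left (q.left x) = u.left x := by rw [← Scheme.Hom.comp_apply, hqml]
    constructor
    · intro h
      have h2 : (pullback.fst G.hom F) (m.left (q.left x)) ∈ U := h.1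
      rw [h1, hfst] at h2
      exact h2
    · intro h
      refine ⟨?_, trivial⟩
      change (pullback.fst G.hom F) (m.left (q.left x)) ∈ U
      rw [h1, hfst]
      exact h
  let P : Q.left.Opens → Prop := fun V => ∀ b : Γ(Q.left, V), q.left.app V b ∈ PS G.hom p (q.left ⁻¹ᵁ V)
  have key : P (m.left ⁻¹ᵁ W) := by
    intro b
    obtain ⟨c, rfl⟩ := m.left.app_surjective W hW b
    let R : Subring Γ(H.left, W) := (PS G.hom p (q.left ⁻¹ᵁ (m.left ⁻¹ᵁ W))).comap
      (m.left.app W ≫ q.left.app (m.left ⁻¹ᵁ W)).hom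
    have e : U ≤ G.hom ⁻¹ᵁ ⊤ := le_top
    have hpo := (isIso_pushoutSection_iff (IsPullback.of_hasPullback G.hom F)
      (US := ⊤) (UT := ⊤) (UX := U) le_top e (UY := W) rfl).mp
      (isIso_pushoutSection_of_isAffineOpen _ _ _ _ (isAffineOpen_top S) (isAffineOpen_top S) hU)
    refine K430.FrobDer.eq_top_of_isPushout hpo R ?_ ?_ c
    · intro a
      have hle : q.left ⁻¹ᵁ (m.left ⁻¹ᵁ W) ≤ (FrobSch.frob G.left p) ⁻¹ᵁ U := by
        intro x hx
        have h2 : (pullback.fst G.hom F) (m.left (q.left x)) ∈ U := hx.1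
        have e1 : m.left (q.left x) = u.left x := by rw [← Scheme.Hom.comp_apply, hqml]
        rw [e1, hfst] at h2
        exact h2
      have h1 : (pullback.fst G.hom F).appLE U W inf_le_left ≫ m.left.app W ≫ q.left.app (m.left ⁻¹ᵁ W) =
          (FrobSch.frob G.left p).appLE U (q.left ⁻¹ᵁ (m.left ⁻¹ᵁ W)) hle := by
        rw [Scheme.Hom.app_eq_appLE, Scheme.Hom.app_eq_appLE, Scheme.Hom.appLE_comp_appLE,
          Scheme.Hom.appLE_comp_appLE]
        congr 1
        rw [hqml]
        exact FrobSch.relFrob_fst G.hom p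
      have h2 := congr($h1 a)
      change (m.left.app W ≫ q.left.app (m.left ⁻¹ᵁ W)) ((pullback.fst G.hom F).appLE U W inf_le_left a) ∈
        PS G.hom p (q.left ⁻¹ᵁ (m.left ⁻¹ᵁ W))
      rw [CommRingCat.comp_apply] at h2
      rw [h2, K430.FrobDer.frob_appLE]
      exact pow_mem _ _ _ _
    · intro b
      have h1 : (pullback.snd G.hom F).appLE ⊤ W inf_le_right ≫ m.left.app W ≫ q.left.app (m.left ⁻¹ᵁ W) =
          G.hom.appLE ⊤ (q.left ⁻¹ᵁ (m.left ⁻¹ᵁ W)) le_top := by
        rw [Scheme.Hom.app_eq_appLE, Scheme.Hom.app_eq_appLE, Scheme.Hom.appLE_comp_appLE,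
          Scheme.Hom.appLE_comp_appLE]
        congr 1
        rw [hqml]
        exact FrobSch.relFrob_snd G.hom p
      have h2 := congr($h1 b)
      change (m.left.app W ≫ q.left.app (m.left ⁻¹ᵁ W)) ((pullback.snd G.hom F).appLE ⊤ W inf_le_right b) ∈
        PS G.hom p (q.left ⁻¹ᵁ (m.left ⁻¹ᵁ W))
      rw [CommRingCat.comp_apply] at h2
      rw [h2]
      have h3 := sc_mem G.hom p (q.left ⁻¹ᵁ (m.left ⁻¹ᵁ W)) ((Scheme.ΓSpecIso (CommRingCat.of K)).hom b)
      have h4 : sc G.hom (q.left ⁻¹ᵁ (m.left ⁻¹ᵁ W)) ((Scheme.ΓSpecIso (CommRingCat.of K)).hom b) =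
          G.hom.appLE ⊤ (q.left ⁻¹ᵁ (m.left ⁻¹ᵁ W)) le_top b := by
        have h5 : (Scheme.ΓSpecIso (CommRingCat.of K)).inv ((Scheme.ΓSpecIso (CommRingCat.of K)).hom b) = b := by
          rw [← CommRingCat.comp_apply, Iso.hom_inv_id]; rfl
        exact congrArg (fun z => G.hom.appLE ⊤ (q.left ⁻¹ᵁ (m.left ⁻¹ᵁ W)) le_top z) h5
      rw [← h4]
      exact h3
  have hP : P V := hVW ▸ key
  exact hP

lemma map_PS {X Y : Scheme.{u}} (g : X ⟶ Y) (f : Y ⟶ Spec (CommRingCat.of K)) (h : X ⟶ Spec (CommRingCat.of K))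
    (w : g ≫ f = h) {N : ℕ} (V : Y.Opens)
    (hg : ∀ a : Γ(Y, V), g.app V a ∈ PS h N (g ⁻¹ᵁ V)) (b : Γ(Y, V)) (hb : b ∈ PS f p V) :
    g.app V b ∈ PS h (N * p) (g ⁻¹ᵁ V) := by
  have h1 : PS f p V ≤ (PS h (N * p) (g ⁻¹ᵁ V)).comap (g.app V).hom := by
    refine Subring.closure_le.mpr ?_
    rintro _ (⟨c, rfl⟩ | ⟨a, rfl⟩)
    · change g.app V (sc f V c) ∈ PS h (N * p) (g ⁻¹ᵁ V)
      rw [app_sc g f h w]
      exact sc_mem _ _ _ _
    · change g.app V (a ^ p) ∈ PS h (N * p) (g ⁻¹ᵁ V)
      rw [map_pow]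
      have h2 : PS h N (g ⁻¹ᵁ V) ≤ (PS h (N * p) (g ⁻¹ᵁ V)).comap
          (FrobSch.powHom p Γ(X, g ⁻¹ᵁ V) (natCast_eq_zero p h _)) := by
        refine Subring.closure_le.mpr ?_
        rintro _ (⟨c, rfl⟩ | ⟨a, rfl⟩)
        · change (sc h (g ⁻¹ᵁ V) c) ^ p ∈ PS h (N * p) (g ⁻¹ᵁ V)
          rw [← map_pow]
          exact sc_mem _ _ _ _
        · change (a ^ N) ^ p ∈ PS h (N * p) (g ⁻¹ᵁ V)
          rw [← pow_mul]
          exact pow_mem _ _ _ _
      exact h2 (hg a)
  exact h1 hb

theorem Good.comp {N : ℕ} {G Q Q' : Over (Spec (CommRingCat.of K))} {q : G ⟶ Q} {q' : Q ⟶ Q'}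
    (h : Good N q) (h' : Good p q') : Good (N * p) (q ≫ q') where
  surj := by
    have := h.surj
    have := h'.surj
    rw [Over.comp_left]; infer_instance
  flat := by
    have := h.flat
    have := h'.flat
    rw [Over.comp_left]; infer_instance
  lfp := by
    have := h.lfp
    have := h'.lfp
    rw [Over.comp_left]; infer_instance
  fin := by
    have := h.fin
    have := h'.fin
    rw [Over.comp_left]; infer_instance
  inj := by
    rw [Over.comp_left]
    exact MorphismProperty.comp_mem @UniversallyInjective _ _ h.inj h'.inj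
  mem V hV b := by
    have := h'.fin
    have hU : IsAffineOpen (q'.left ⁻¹ᵁ V) := hV.preimage q'.left
    exact map_PS p q.left Q.hom G.hom (Over.w q) (q'.left ⁻¹ᵁ V) (h.mem _ hU) _ (h'.mem V hV b)

/-- Iterated quotient. -/
theorem iter (n : ℕ) (G : Over (Spec (CommRingCat.of K))) [GrpObj G] [LocallyOfFiniteType G.hom] :
    ∃ (Q : Over (Spec (CommRingCat.of K))) (_ : GrpObj Q) (q : G ⟶ Q), IsMonHom q ∧
      LocallyOfFiniteType Q.hom ∧ Good (p ^ n) q := by
  induction n with
  | zero => exact ⟨G, inferInstance, 𝟙 G, inferInstance, inferInstance, by rw [pow_zero]; exact good_id G⟩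
  | succ n ih =>
    obtain ⟨Q, gQ, q, hq, hft, hg⟩ := ih
    obtain ⟨Q', gQ', q', hq', hft', hg'⟩ := step p Q
    exact ⟨Q', gQ', q ≫ q', inferInstance, hft', by rw [pow_succ]; exact hg.comp p hg'⟩

end Main

end K114.FrobStep
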